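import Mathlib.FieldTheory.Finite.Polynomial
import Mathlib.RingTheory.MvPolynomial.Homogeneous

/-!
# A hypersurface over a finite field through all rational points has degree at least `q + 1`
-/

set_option autoImplicit false

namespace Groth.Agent.Sga4h.H551.HypDeg

open MvPolynomial Finset

theorem degree_of_ne {k : Type*} [Field k] {σ : Type*} {d : ℕ} {P : MvPolynomial σ k}
    (hP : P.IsHomogeneous d) {s : σ →₀ ℕ} (h : P.coeff s ≠ 0) : s.degree = d := by
  by_contra h1
  exact h (hP.coeff_eq_zero h1)

theorem main {k : Type} [Field k] [Fintype k] {σ : Type} [Fintype σ] (d : ℕ)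
    (P : MvPolynomial σ k) (hP : P.IsHomogeneous d) (hP0 : P ≠ 0)
    (hvan : ∀ x : σ → k, MvPolynomial.eval x P = 0) :
    Fintype.card k + 1 ≤ d := by
  classical
  by_contra hlt
  push Not at hlt
  have hdq : d ≤ Fintype.card k := by lia
  set q := Fintype.card k with hq
  have hq2 : 2 ≤ q := Fintype.one_lt_card
  let c : σ → k := fun i => P.coeff (Finsupp.single i q)
  let Q : MvPolynomial σ k := P - ∑ i, C (c i) * (X i ^ q - X i)
  have hcoeff : ∀ s : σ →₀ ℕ, Q.coeff s = P.coeff s -
      ∑ i, c i * ((if Finsupp.single i q = s then 1 else 0) - (if Finsupp.single i 1 = s then 1 else 0)) := by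
    intro s
    simp only [Q, coeff_sub, coeff_sum, coeff_C_mul, coeff_X_pow, coeff_X]
  have hQ0 : Q = 0 := by
    refine MvPolynomial.eq_zero_of_eval_eq_zero σ k Q ?_ ?_
    · intro v
      simp [Q, hvan, hq, FiniteField.pow_card]
    · rw [mem_restrictDegree]
      intro s hs i
      by_contra hi
      have hi' : q ≤ s i := by lia
      rw [mem_support_iff] at hs
      apply hs
      rw [hcoeff]
      have h1 : ∀ j, Finsupp.single j 1 ≠ s := by
        rintro j rfl
        rw [Finsupp.single_apply] at hi'
        split_ifs at hi' <;> lia
      by_cases hPs : P.coeff s = 0
      · rw [hPs]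
        have : ∀ j, c j * ((if Finsupp.single j q = s then 1 else 0) - (if Finsupp.single j 1 = s then 1 else 0)) = 0 := by
          intro j
          rw [if_neg (h1 j)]
          split_ifs with h2
          · simp only [c]; rw [h2, hPs]; ring
          · ring
        simp [this]
      · have hdeg : s.degree = d := by
          exact degree_of_ne hP hPs
        have hs' : s = Finsupp.single i q := by
          have h2 : s i ≤ s.degree := Finsupp.le_degree i s
          have h3 : s i = q := by lia
          have h4 : s.degree = q := by lia
          ext j
          by_cases hj : j = i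
          · subst hj; rw [h3]; simp
          · rw [Finsupp.single_eq_of_ne hj]
            by_contra hne
            have h5 : s i + s j ≤ s.degree := by
              rw [Finsupp.degree_eq_sum]
              have := Finset.add_le_sum (f := fun a => s a) (s := Finset.univ) (i := i) (j := j)
                (fun _ _ => Nat.zero_le _) (Finset.mem_univ i) (Finset.mem_univ j) (Ne.symm hj)
              exact this
            lia
        rw [Finset.sum_eq_single i]
        · rw [if_pos hs'.symm, if_neg (h1 i), hs']
          simp [c]
        · intro j _ hj
          rw [if_neg (h1 j), if_neg]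
          · ring
          · rw [hs']
            intro h
            rw [Finsupp.single_left_inj (by lia)] at h
            exact hj h
        · simp
  have hc : ∀ i, c i = 0 := by
    intro i
    by_contra hci
    have hdq' : d = q := by
      have := degree_of_ne hP hci
      rw [Finsupp.degree_single] at this
      exact this.symm
    have h1 := hcoeff (Finsupp.single i 1)
    rw [hQ0, coeff_zero] at h1
    have h2 : P.coeff (Finsupp.single i 1) = 0 := by
      by_contra h3
      have := degree_of_ne hP h3
      rw [Finsupp.degree_single] at this
      lia
    rw [h2, Finset.sum_eq_single i] at h1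
    · rw [if_neg, if_pos rfl] at h1
      · apply hci
        linear_combination -h1
      · intro h
        have := congrArg (fun f => f i) h
        simp at this
        lia
    · intro j _ hj
      rw [if_neg, if_neg]
      · ring
      · intro h
        rw [Finsupp.single_left_inj one_ne_zero] at h
        exact hj h
      · intro h
        have := congrArg (fun f => f i) h
        simp [hj] at this
    · simp
  apply hP0
  have h3 : Q = P := by simp [Q, hc]
  rw [← h3, hQ0]

end Groth.Agent.Sga4h.H551.HypDeg
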