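import Mathlib.NumberTheory.LegendreSymbol.AddCharacter
import Mathlib.Tactic.LinearCombination
import Mathlib.Algebra.Field.Basic
import Mathlib.Algebra.BigOperators.Ring.Finset
import Mathlib.Algebra.BigOperators.Pi
import Mathlib.Data.Fintype.BigOperators

/-!
# The Kloosterman sum with parameter zero
-/

set_option autoImplicit false

namespace Groth.Agent.Sga4h.H551.KloZero

open Finset

theorem map_sum_eq {k R : Type*} [AddCommMonoid k] [CommMonoid R] (ψ : AddChar k R) {ι : Type*}
    (s : Finset ι) (f : ι → k) : ψ (∑ i ∈ s, f i) = ∏ i ∈ s, ψ (f i) := by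
  classical
  induction s using Finset.induction_on with
  | empty => simp
  | insert a s ha ih => rw [Finset.sum_insert ha, Finset.prod_insert ha, AddChar.map_add_eq_mul, ih]

theorem main (k : Type*) [Field k] [Fintype k] [DecidableEq k] (R : Type*) [CommRing R] [IsDomain R]
    (ψ : AddChar k R) (hψ : ψ ≠ 1) (n : ℕ) (hn : 1 ≤ n) :
    ∑ x ∈ (Finset.univ : Finset (Fin n → k)).filter (fun x => ∏ i, x i = 0), ψ (∑ i, x i) = (-1) ^ (n - 1) := by
  have h0 : ∑ a, ψ a = 0 := AddChar.sum_eq_zero_of_ne_one hψ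
  have h1 : ∑ a ∈ univ.erase (0 : k), ψ a = -1 := by
    have := Finset.sum_erase_add (s := univ) (f := fun a => ψ a) (a := (0 : k)) (mem_univ _)
    rw [h0, AddChar.map_zero_eq_one] at this
    linear_combination this
  have h2 : ∑ x : Fin n → k, ψ (∑ i, x i) = 0 := by
    have h := Finset.prod_univ_sum (fun _ : Fin n => (univ : Finset k)) (fun _ a => ψ a)
    rw [Fintype.piFinset_univ] at h
    simp_rw [map_sum_eq]
    rw [← h]
    simp only [h0]
    rw [Finset.prod_const, Finset.card_univ, Fintype.card_fin, zero_pow (by lia)]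
  have h3 : ∑ x ∈ (Finset.univ : Finset (Fin n → k)).filter (fun x => ¬ ∏ i, x i = 0), ψ (∑ i, x i) =
      (-1) ^ n := by
    have h := Finset.prod_univ_sum (fun _ : Fin n => (univ.erase (0 : k))) (fun _ a => ψ a)
    simp_rw [map_sum_eq]
    have e : (Finset.univ : Finset (Fin n → k)).filter (fun x => ¬ ∏ i, x i = 0) =
        Fintype.piFinset (fun _ : Fin n => (univ.erase (0 : k))) := by
      ext x
      simp [Finset.prod_eq_zero_iff]
    rw [e, ← h]
    simp only [h1]
    rw [Finset.prod_const, Finset.card_univ, Fintype.card_fin]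
  have h4 := Finset.sum_filter_add_sum_filter_not (Finset.univ : Finset (Fin n → k))
    (fun x => ∏ i, x i = 0) (fun x => ψ (∑ i, x i))
  rw [h2, h3] at h4
  obtain ⟨m, rfl⟩ : ∃ m, n = m + 1 := ⟨n - 1, by lia⟩
  rw [Nat.add_sub_cancel]
  rw [pow_succ] at h4
  linear_combination h4

end Groth.Agent.Sga4h.H551.KloZero
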